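import Mathlib

/-!
Noetherian schemes of dimension at most one: dense affine opens with finite discrete complement.
-/

set_option autoImplicit false

universe u

open CategoryTheory AlgebraicGeometry TopologicalSpace Order

namespace Groth.Agent.AmpleDimOne

variable {X : Scheme.{u}}

/-- No specialisation chains of length two. -/
theorem eq_or_eq_of_specializes (hdim : topologicalKrullDim X ≤ 1) {a b c : X} (hab : a ⤳ b)
    (hbc : b ⤳ c) : a = b ∨ b = c := by
  by_contra h
  push_neg at h
  have key : ∀ {p q : X}, p ⤳ q → p ≠ q →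
      (⟨closure {q}, isIrreducible_singleton.closure, isClosed_closure⟩ : IrreducibleCloseds X) <
        ⟨closure {p}, isIrreducible_singleton.closure, isClosed_closure⟩ := fun {p q} hpq hne => by
    refine lt_of_le_of_ne (specializes_iff_closure_subset.1 hpq) fun e => hne ?_
    have e' : closure ({q} : Set X) = closure {p} := congrArg (fun Z : IrreducibleCloseds X => (Z : Set X)) e
    exact (hpq.antisymm (specializes_iff_closure_subset.2 e'.ge)).eq
  let s : LTSeries (IrreducibleCloseds X) :=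
    ((RelSeries.singleton _ ⟨closure {c}, isIrreducible_singleton.closure, isClosed_closure⟩).snoc
      ⟨closure {b}, isIrreducible_singleton.closure, isClosed_closure⟩ (by exact key hbc h.2)).snoc
      ⟨closure {a}, isIrreducible_singleton.closure, isClosed_closure⟩ (by
        rw [RelSeries.last_snoc]; exact key hab h.1)
  have h2 := (LTSeries.length_le_krullDim s).trans hdim
  rw [show s.length = 2 from rfl] at h2
  exact absurd (by exact_mod_cast h2 : (2 : ℕ) ≤ 1) (by omega)

theorem ringKrullDim_stalk_le (hdim : topologicalKrullDim X ≤ 1) (z : X) :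
    ringKrullDim (X.presheaf.stalk z) ≤ 1 := by
  refine Ring.krullDimLE_iff.1 (Ring.KrullDimLE.mk₁ fun I hI => ?_)
  by_contra hne
  push_neg at hne
  obtain ⟨J, hJ, hJI⟩ := Ideal.exists_minimalPrimes_le (bot_le : (⊥ : Ideal (X.presheaf.stalk z)) ≤ I)
  let pJ : PrimeSpectrum (X.presheaf.stalk z) := ⟨J, hJ.1.1⟩
  let pI : PrimeSpectrum (X.presheaf.stalk z) := ⟨I, hI⟩
  have h1 : X.fromSpecStalk z pJ ⤳ X.fromSpecStalk z pI :=
    Specializes.map ((PrimeSpectrum.le_iff_specializes pJ pI).1 hJI) (X.fromSpecStalk z).continuous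
  have h2 : X.fromSpecStalk z pI ⤳ X.fromSpecStalk z (IsLocalRing.closedPoint _) :=
    Specializes.map ((PrimeSpectrum.le_iff_specializes pI _).1 (IsLocalRing.le_maximalIdeal hI.ne_top))
      (X.fromSpecStalk z).continuous
  have hinj := (X.fromSpecStalk z).isEmbedding.injective
  rcases eq_or_eq_of_specializes hdim h1 h2 with e | e
  · have e' : pJ = pI := hinj e
    refine hne.1 ?_
    rw [show I = J from (congrArg PrimeSpectrum.asIdeal e').symm]
    exact hJ
  · have e' : pI = IsLocalRing.closedPoint _ := hinj e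
    refine hne.2 ?_
    rw [show I = IsLocalRing.maximalIdeal _ from congrArg PrimeSpectrum.asIdeal e']
    exact IsLocalRing.maximalIdeal.isMaximal _

theorem exists_dense_affine [IsNoetherian X] (hdim : topologicalKrullDim X ≤ 1) (x : X) :
    ∃ U : X.Opens, IsAffineOpen U ∧ x ∈ U ∧ ((U : Set X)ᶜ).Finite ∧
      DiscreteTopology ↥((U : Set X)ᶜ) := by
  classical
  obtain ⟨W, hW, hxW, -⟩ :=
    exists_isAffineOpen_mem_and_subset (x := x) (U := (⊤ : X.Opens)) trivial
  have hfin := NoetherianSpace.finite_irreducibleComponents (α := X)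
  let κ := {C // C ∈ irreducibleComponents X ∧ (C ∩ W : Set X) = ∅}
  haveI : Finite κ := (hfin.subset (Set.sep_subset _ fun C => (C ∩ W : Set X) = ∅)).to_subtype
  have hη : ∀ C : κ, ∃ η, IsGenericPoint η C.1 := fun C =>
    QuasiSober.sober C.2.1.1 (isClosed_of_mem_irreducibleComponents _ C.2.1)
  choose η hη using hη
  have huniq : ∀ C : κ, ∀ C' ∈ irreducibleComponents X, η C ∈ C' → C' = C.1 := fun C C' hC' hmem => by
    have hle : C.1 ⊆ C' := by
      rw [← (hη C).def]
      exact closure_minimal (Set.singleton_subset_iff.2 hmem) (isClosed_of_mem_irreducibleComponents _ hC')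
    exact le_antisymm (C.2.1.2 hC'.1 hle) hle
  have hN : ∀ C : κ, ∃ O : X.Opens, IsAffineOpen O ∧ η C ∈ O ∧
      ∀ y ∈ O, ∀ C' ∈ irreducibleComponents X, y ∈ C' → C' = C.1 := fun C => by
    let S := irreducibleComponents X \ {C.1}
    have hcl : IsClosed (⋃ Z ∈ S, Z) := (hfin.subset Set.sdiff_subset).isClosed_biUnion
      fun Z hZ => isClosed_of_mem_irreducibleComponents Z hZ.1
    have hmem : η C ∈ (⋃ Z ∈ S, Z)ᶜ := fun h => by
      obtain ⟨Z, hZ, hηZ⟩ := Set.mem_iUnion₂.1 h
      exact hZ.2 (huniq C Z hZ.1 hηZ)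
    obtain ⟨O, hO, hηO, hOsub⟩ := exists_isAffineOpen_mem_and_subset (x := η C)
      (U := (⟨(⋃ Z ∈ S, Z)ᶜ, hcl.isOpen_compl⟩ : X.Opens)) hmem
    refine ⟨O, hO, hηO, fun y hy C' hC' hyC' => ?_⟩
    by_contra hne
    exact hOsub hy (Set.mem_iUnion₂.2 ⟨C', ⟨hC', hne⟩, hyC'⟩)
  choose O hO hηO hOC using hN
  let V : Option κ → X.Opens := fun o => o.elim W O
  have hdisj : ∀ C, ∀ y ∈ W, y ∉ O C := fun C y hyW hyO => by
    have h1 := hOC C y hyO _ (irreducibleComponent_mem_irreducibleComponents y) mem_irreducibleComponent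
    exact (Set.eq_empty_iff_forall_notMem.1 C.2.2) y ⟨h1 ▸ mem_irreducibleComponent, hyW⟩
  have hpair : Pairwise (Function.onFun Disjoint V) := by
    rintro (_ | C) (_ | C') hne
    · exact absurd rfl hne
    · exact disjoint_iff_inf_le.2 fun y hy => (hdisj C' y hy.1 hy.2).elim
    · exact disjoint_iff_inf_le.2 fun y hy => (hdisj C y hy.2 hy.1).elim
    · refine disjoint_iff_inf_le.2 fun y hy => (hne ?_).elim
      have h1 := hOC C y hy.1 _ (irreducibleComponent_mem_irreducibleComponents y) mem_irreducibleComponent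
      have h2 := hOC C' y hy.2 _ (irreducibleComponent_mem_irreducibleComponents y) mem_irreducibleComponent
      exact congrArg some (Subtype.ext (h1.symm.trans h2))
  let U : X.Opens := iSup V
  have hU : IsAffineOpen U := IsAffineOpen.iSup_of_disjoint (fun o => by cases o with
    | none => exact hW
    | some C => exact hO C) hpair
  have hgen : ∀ C ∈ irreducibleComponents X, ∀ ξ, IsGenericPoint ξ C → ξ ∈ U := fun C hC ξ hξ => by
    by_cases hCW : (C ∩ W : Set X) = ∅
    · obtain rfl : ξ = η ⟨C, hC, hCW⟩ := hξ.eq (hη ⟨C, hC, hCW⟩)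
      exact Opens.mem_iSup.2 ⟨some ⟨C, hC, hCW⟩, hηO _⟩
    · obtain ⟨y, hyC, hyW⟩ := Set.nonempty_iff_ne_empty.2 hCW
      exact Opens.mem_iSup.2 ⟨none, (hξ.specializes hyC).mem_open W.2 hyW⟩
  have hclosed : ∀ y ∉ U, IsClosed ({y} : Set X) := fun y hy => by
    refine closure_subset_iff_isClosed.1 fun w hw => ?_
    obtain ⟨ξ, hξ⟩ := QuasiSober.sober
      (irreducibleComponent_mem_irreducibleComponents y).1 isClosed_irreducibleComponent
    rcases eq_or_eq_of_specializes hdim (hξ.specializes mem_irreducibleComponent)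
      (specializes_iff_mem_closure.2 hw) with e | e
    · exact absurd (e ▸ hgen _ (irreducibleComponent_mem_irreducibleComponents y) ξ hξ) hy
    · exact e.symm
  have hfinE : ((U : Set X)ᶜ).Finite := by
    obtain ⟨T, hTfin, hTC, hTI, hTeq⟩ :=
      NoetherianSpace.exists_finite_set_isClosed_irreducible U.isOpen.isClosed_compl
    refine (Set.Finite.biUnion hTfin fun Z hZ => ?_).subset
      (fun y hy => by rw [hTeq, Set.sUnion_eq_biUnion] at hy; exact hy)
    obtain ⟨ξ, hξ⟩ := QuasiSober.sober (hTI Z hZ) (hTC Z hZ)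
    have hξU : ξ ∉ U := fun h => by
      have : ξ ∈ ((U : Set X)ᶜ) := hTeq.ge ⟨Z, hZ, hξ.mem⟩
      exact this h
    rw [← hξ.def, (hclosed ξ hξU).closure_eq]
    exact Set.finite_singleton ξ
  haveI := hfinE.to_subtype
  haveI : T1Space ↥((U : Set X)ᶜ) := ⟨fun y => by
    rw [isClosed_induced_iff]
    refine ⟨{y.1}, hclosed y.1 y.2, ?_⟩
    ext w
    simp [Subtype.ext_iff]⟩
  exact ⟨U, hU, Opens.mem_iSup.2 ⟨none, hxW⟩, hfinE, inferInstance⟩

end Groth.Agent.AmpleDimOne
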