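import Mathlib
import Groth.Agent.GlueSL.Basic

/-!
An element with poles at all branches over a point of a one dimensional local ring has powers whose
inverses lie in the maximal ideal.
-/

set_option autoImplicit false

universe u v

open IsDedekindDomain IsLocalRing
open scoped WithZero

namespace Groth.Agent.AmpleDimOne

/-- One element of a ring which is large for finitely many valuations. -/
theorem exists_large {A : Type u} [CommRing A] {ι : Type v} (v : ι → Valuation A ℤᵐ⁰)
    (hA : ∀ i, ∃ a, 1 < v i a) (s : Finset ι) : ∃ a, ∀ i ∈ s, 1 < v i a := by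
  classical
  induction s using Finset.induction_on with
  | empty => exact ⟨0, by simp⟩
  | insert j t hj ih =>
    obtain ⟨a, ha⟩ := ih
    obtain ⟨b, hb⟩ := hA j
    by_cases hja : 1 < v j a
    · refine ⟨a, fun i hi => ?_⟩
      rcases Finset.mem_insert.mp hi with rfl | hi
      exacts [hja, ha i hi]
    have hN : ∀ i, ∃ N₀ : ℕ, ∀ N ≥ N₀, 1 < v i b → v i a < v i b ^ N := fun i => by
      by_cases h : 1 < v i b
      · obtain ⟨N₀, h₀⟩ := GlueSL.exists_lt_pow h (v i a)
        exact ⟨N₀, fun N hN _ => h₀ N hN⟩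
      · exact ⟨0, fun N _ h' => absurd h' h⟩
    choose N₀ hN₀ using hN
    let N := (insert j t).sup N₀ + 1
    refine ⟨a + b ^ N, fun i hi => ?_⟩
    have hle : N₀ i ≤ N := le_trans (Finset.le_sup hi) (Nat.le_succ _)
    by_cases hib : 1 < v i b
    · have h1 := hN₀ i N hle hib
      rw [← map_pow] at h1
      rw [(v i).map_add_eq_of_lt_right h1, map_pow]
      exact one_lt_pow₀ hib (by omega)
    · rcases Finset.mem_insert.mp hi with rfl | hi'
      · exact absurd hb hib
      · have h1 : v i (b ^ N) < v i a := by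
          rw [map_pow]
          exact lt_of_le_of_lt (pow_le_one' (not_lt.mp hib) N) (ha i hi')
        rw [(v i).map_add_eq_of_lt_left h1]
        exact ha i hi'

section Branch

variable {B : Type u} [CommRing B] [IsDomain B] [IsNoetherianRing B] [IsLocalRing B]
  [Ring.KrullDimLE 1 B] (hB : ¬ IsField B) (K : Type u) [Field K] [Algebra B K] [IsFractionRing B K]

include hB

/-- The finitely many branches. -/
theorem finite_branches : Finite (HeightOneSpectrum (integralClosure B K)) := by
  haveI : Finite (MaximalSpectrum B) :=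
    Finite.of_injective (β := PUnit.{1}) (fun _ => PUnit.unit) fun a b _ => MaximalSpectrum.ext
      ((IsLocalRing.eq_maximalIdeal a.isMaximal).trans (IsLocalRing.eq_maximalIdeal b.isMaximal).symm)
  haveI := GlueSL.finite_maximalSpectrum_integralClosure B K hB
  haveI := GlueSL.isDedekindDomain_integralClosure B K
  exact Finite.of_injective (fun w : HeightOneSpectrum (integralClosure B K) =>
      (⟨w.asIdeal, w.isPrime.isMaximal w.ne_bot⟩ : MaximalSpectrum (integralClosure B K)))
    fun a b h => HeightOneSpectrum.ext (congrArg MaximalSpectrum.asIdeal h)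

theorem exists_branch [IsDedekindDomain (integralClosure B K)] :
    Nonempty (HeightOneSpectrum (integralClosure B K)) := by
  obtain ⟨m, hm⟩ := Ideal.exists_maximal (integralClosure B K)
  refine ⟨⟨m, hm.isPrime, fun hm0 => hB ?_⟩⟩
  refine isField_of_isIntegral_of_isField (S := integralClosure B K)
    (FaithfulSMul.algebraMap_injective _ _) ?_
  exact GlueSL.isField_of_isMaximal_bot (hm0 ▸ hm)

/-- Large at all branches means inverse powers in the maximal ideal. -/
theorem exists_inv_pow [IsDedekindDomain (integralClosure B K)]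
    [IsFractionRing (integralClosure B K) K] (x : K)
    (hx : ∀ w : HeightOneSpectrum (integralClosure B K), 1 < w.valuation K x) :
    x ≠ 0 ∧ ∃ n₀ : ℕ, ∀ n ≥ n₀, ∃ b ∈ maximalIdeal B, algebraMap B K b * x ^ n = 1 := by
  obtain ⟨w₀⟩ := exists_branch hB K
  have hx0 : x ≠ 0 := fun h => by
    have := hx w₀
    rw [h, map_zero] at this
    exact absurd this (not_lt.mpr zero_le)
  refine ⟨hx0, ?_⟩
  obtain ⟨y, hy⟩ := HeightOneSpectrum.mem_integers_of_valuation_le_one (R := integralClosure B K)
    K x⁻¹ fun w => by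
      rw [map_inv₀]
      exact inv_le_one_of_one_le₀ (hx w).le
  have hym : ∀ m : Ideal (integralClosure B K), m.IsMaximal → y ∈ m := fun m hm => by
    by_cases hm0 : m = ⊥
    · exfalso
      apply hB
      refine isField_of_isIntegral_of_isField (S := integralClosure B K)
        (FaithfulSMul.algebraMap_injective _ _) ?_
      exact GlueSL.isField_of_isMaximal_bot (hm0 ▸ hm)
    let w : HeightOneSpectrum (integralClosure B K) := ⟨m, hm.isPrime, hm0⟩
    refine (w.valuation_lt_one_iff_mem (K := K) y).mp ?_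
    show w.valuation K (algebraMap (integralClosure B K) K y) < 1
    rw [hy, map_inv₀]
    exact inv_lt_one_of_one_lt₀ (hx w)
  obtain ⟨n₀, hn₀⟩ := GlueSL.exists_pow_mem_jacobson y hym
  refine ⟨n₀, fun n hn => ?_⟩
  obtain ⟨b, hb, hbJ⟩ := hn₀ n hn
  refine ⟨b, by rwa [IsLocalRing.jacobson_eq_maximalIdeal _ bot_ne_top] at hbJ, ?_⟩
  have hy' : ((y : integralClosure B K) : K) = x⁻¹ := hy
  rw [hb, hy', inv_pow, inv_mul_cancel₀ (pow_ne_zero _ hx0)]

end Branch

/-- If the inverse of `v` is congruent to an element of the maximal ideal at every punctured prime,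
some powers of the inverse lie in the maximal ideal. -/
theorem exists_inv_pow_mem {R : Type u} [CommRing R] [IsNoetherianRing R] [IsLocalRing R] (g : R)
    (hgm : g ∈ maximalIdeal R) (honly : ∀ q : Ideal R, q.IsPrime → g ∈ q → q = maximalIdeal R)
    (hmin : ∀ q : Ideal R, q.IsPrime → g ∉ q → q ∈ minimalPrimes R)
    (S : Type u) [CommRing S] [Algebra R S] [IsLocalization.Away g S] (v : S)
    (hv : ∀ q : Ideal R, q.IsPrime → g ∉ q →
      ∃ r ∈ maximalIdeal R, v * algebraMap R S r - 1 ∈ q.map (algebraMap R S)) :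
    ∃ n₀ : ℕ, ∀ n ≥ n₀, ∃ r ∈ maximalIdeal R, algebraMap R S r * v ^ n = 1 := by
  classical
  have hprime : ∀ P : Ideal S, P.IsPrime → g ∉ P.under R ∧ (P.under R).map (algebraMap R S) = P :=
    fun P hP => ⟨fun h => hP.ne_top (Ideal.eq_top_of_isUnit_mem _ h
      (IsLocalization.Away.algebraMap_isUnit g)), IsLocalization.map_under (Submonoid.powers g) S P⟩
  have hvu : IsUnit v := by
    by_contra h
    obtain ⟨P, hP, hvP⟩ := exists_max_ideal_of_mem_nonunits h
    obtain ⟨hgP, hPe⟩ := hprime P hP.isPrime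
    haveI := hP.isPrime
    obtain ⟨r, -, hr⟩ := hv (P.under R) inferInstance hgP
    rw [hPe] at hr
    exact hP.ne_top ((Ideal.eq_top_iff_one _).2
      (by simpa using P.sub_mem (P.mul_mem_right (algebraMap R S r) hvP) hr))
  let w : S := hvu.unit⁻¹.val
  have hwv : w * v = 1 := hvu.val_inv_mul
  -- the finitely many punctured primes
  let Q := (minimalPrimes.finite_of_isNoetherianRing R).toFinset.filter fun q => g ∉ q
  have hQ : ∀ q ∈ Q, q.IsPrime ∧ g ∉ q := fun q hq => by
    obtain ⟨hq1, hq2⟩ := Finset.mem_filter.1 hq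
    exact ⟨((minimalPrimes.finite_of_isNoetherianRing R).mem_toFinset.1 hq1).1.1, hq2⟩
  choose r hrm hr using fun q : Q => hv q.1 (hQ q.1 q.2).1 (hQ q.1 q.2).2
  let P : Polynomial R := ∏ q : Q, (Polynomial.X - Polynomial.C (r q))
  have hPnil : IsNilpotent (Polynomial.aeval w P) := by
    rw [nilpotent_iff_mem_prime]
    intro M hM
    obtain ⟨hgM, hMe⟩ := hprime M hM
    haveI := hM
    have hmem : M.under R ∈ Q := Finset.mem_filter.2
      ⟨(minimalPrimes.finite_of_isNoetherianRing R).mem_toFinset.2 (hmin _ inferInstance hgM), hgM⟩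
    rw [map_prod]
    refine Ideal.prod_mem (I := M) (Finset.mem_univ (⟨_, hmem⟩ : Q)) ?_
    simp only [map_sub, Polynomial.aeval_X, Polynomial.aeval_C]
    have h1 := hr ⟨_, hmem⟩
    change v * algebraMap R S (r ⟨_, hmem⟩) - 1 ∈ (M.under R).map (algebraMap R S) at h1
    rw [hMe] at h1
    have h2 : w - algebraMap R S (r ⟨_, hmem⟩) = -(w * (v * algebraMap R S (r ⟨_, hmem⟩) - 1)) := by
      linear_combination algebraMap R S (r ⟨_, hmem⟩) * hwv
    rw [h2]
    exact M.neg_mem (M.mul_mem_left w h1)
  obtain ⟨N, hN⟩ := hPnil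
  have hint : IsIntegral R w := ⟨P ^ N, (Polynomial.monic_prod_of_monic _ _ fun q _ =>
    Polynomial.monic_X_sub_C (r q)).pow N, by rw [← Polynomial.aeval_def, map_pow, hN]⟩
  let R' := Algebra.adjoin R ({w} : Set S)
  obtain ⟨gens, hgens⟩ := hint.fg_adjoin_singleton
  have hclear : ∀ s : S, ∃ M : ℕ, algebraMap R S g ^ M * s ∈ (algebraMap R S).range := fun s => by
    obtain ⟨M, a, ha⟩ := IsLocalization.Away.surj g s
    exact ⟨M, RingHom.mem_range.2 ⟨a, by rw [← ha]; exact mul_comm _ _⟩⟩
  choose M hM using hclear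
  let M₀ := gens.sup M
  have hR' : ∀ s ∈ R', algebraMap R S g ^ M₀ * s ∈ (algebraMap R S).range := fun s hs => by
    rw [← Subalgebra.mem_toSubmodule, ← hgens] at hs
    induction hs using Submodule.span_induction with
    | mem x hx =>
      obtain ⟨d, hd⟩ := Nat.exists_eq_add_of_le (Finset.le_sup (f := M) hx)
      rw [show M₀ = gens.sup M from rfl, hd, add_comm, pow_add, mul_assoc]
      exact mul_mem (pow_mem (RingHom.mem_range_self (algebraMap R S) g) d) (hM x)
    | zero => rw [mul_zero]; exact zero_mem _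
    | add a b _ _ ha hb => rw [mul_add]; exact add_mem ha hb
    | smul c a _ ha =>
      rw [Algebra.smul_def, mul_left_comm]
      exact mul_mem ⟨c, rfl⟩ ha
  have hw : w ∈ R' := Algebra.subset_adjoin rfl
  have hrad : (⟨w, hw⟩ : R') ∈ (Ideal.span {algebraMap R R' g}).radical := by
    rw [Ideal.radical_eq_sInf, Ideal.mem_sInf]
    rintro J ⟨hgJ, hJ⟩
    haveI := hJ
    have hJm : J.under R = maximalIdeal R :=
      honly _ inferInstance (hgJ (Ideal.mem_span_singleton_self _))
    have h0 : Polynomial.aeval (⟨w, hw⟩ : R') P ^ N = 0 := by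
      apply Subtype.val_injective
      rw [Subalgebra.coe_pow, Polynomial.aeval_subalgebra_coe]
      exact hN
    have h1 : Polynomial.aeval (⟨w, hw⟩ : R') P ∈ J := hJ.mem_of_pow_mem N (h0 ▸ J.zero_mem)
    rw [map_prod] at h1
    obtain ⟨q, -, hq⟩ := hJ.prod_mem_iff.1 h1
    simp only [map_sub, Polynomial.aeval_X, Polynomial.aeval_C] at hq
    have h2 : algebraMap R R' (r q) ∈ J := by
      have := hrm q
      rwa [← hJm] at this
    simpa using J.add_mem hq h2
  obtain ⟨k, hk⟩ := hrad
  refine ⟨k * (M₀ + 1), fun n hn => ?_⟩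
  obtain ⟨z, hz⟩ := Ideal.mem_span_singleton'.1 hk
  obtain ⟨j, rfl⟩ := Nat.exists_eq_add_of_le hn
  have hz' : (z : S) * algebraMap R S g = w ^ k := congrArg Subtype.val hz
  obtain ⟨a, ha⟩ := hR' ((z : S) ^ (M₀ + 1) * w ^ j)
    (mul_mem (pow_mem z.2 _) (pow_mem hw _))
  refine ⟨g * a, Ideal.mul_mem_right _ _ hgm, ?_⟩
  have h3 : algebraMap R S (g * a) = w ^ (k * (M₀ + 1) + j) := by
    rw [map_mul, ha, pow_add w (k * (M₀ + 1)) j, pow_mul, ← hz', mul_pow, pow_succ (algebraMap R S g) M₀]
    ring
  rw [h3, ← mul_pow, hwv, one_pow]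

end Groth.Agent.AmpleDimOne
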